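import Mathlib.RingTheory.AdjoinRoot
import Mathlib.Algebra.CharP.Algebra
import Mathlib.RingTheory.Nilpotent.Basic

/-!
Subalgebras of `k[u]/(u^(N+1))` stable under `u ↦ u/(1+u)`.
-/

set_option autoImplicit false
universe u

namespace TruncUnipLib

open Polynomial

variable {k : Type u} [Field k] (N : ℕ)

local notation "T" => AdjoinRoot ((Polynomial.X : Polynomial k) ^ (N + 1))
local notation "w" => AdjoinRoot.root ((Polynomial.X : Polynomial k) ^ (N + 1))

lemma w_pow : (w : T) ^ (N + 1) = 0 := by
  rw [← AdjoinRoot.mk_X, ← map_pow, AdjoinRoot.mk_self]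

/-- Every element is a constant plus a multiple of `w`. -/
lemma split_const (r : T) : ∃ (c : k) (s : T), r = algebraMap k T c + w * s := by
  obtain ⟨p, rfl⟩ := AdjoinRoot.mk_surjective r
  refine ⟨p.coeff 0, AdjoinRoot.mk _ p.divX, ?_⟩
  conv_lhs => rw [← Polynomial.X_mul_divX_add p]
  rw [map_add, map_mul, AdjoinRoot.mk_X, AdjoinRoot.mk_C, AdjoinRoot.algebraMap_eq]
  ring

lemma main [CharZero k] (A : Subalgebra k T)
    (hA : ∀ (a : k) (σ : T →ₐ[k] T), σ w * (1 + algebraMap k T a * w) = w → A.map σ ≤ A) :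
    ∃ n : ℕ, 1 ≤ n ∧ n ≤ N + 1 ∧
      Subalgebra.toSubmodule A =
        Submodule.span k {1} ⊔ (Ideal.span {(w : T) ^ n}).restrictScalars k := by
  classical
  -- the substitution
  have hu : IsUnit (1 + w : T) := IsNilpotent.isUnit_one_add (r := (w : T)) ⟨N + 1, w_pow N⟩
  obtain ⟨v, hv⟩ := hu
  let z : T := w * (v⁻¹ : Tˣ)
  have hz : z * (1 + w) = w := by simp only [z, ← hv, mul_assoc, Units.inv_mul, mul_one]
  let σ : T →ₐ[k] T := AdjoinRoot.liftAlgHom _ (Algebra.ofId k T) z (by
    simp [z, mul_pow, w_pow])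
  have hσw : σ w = z := AdjoinRoot.liftAlgHom_root _ _ _ _
  have hσA : ∀ r ∈ A, σ r ∈ A := fun r hr =>
    hA 1 σ (by rw [hσw, map_one, one_mul, hz]) ⟨r, hr, rfl⟩
  -- the least order
  let P : ℕ → Prop := fun n => 1 ≤ n ∧ (n = N + 1 ∨
    ∃ (c : k) (s : T), c ≠ 0 ∧ algebraMap k T c * w ^ n + w ^ (n + 1) * s ∈ A)
  have hex : ∃ n, P n := ⟨N + 1, Nat.le_add_left 1 N, Or.inl rfl⟩
  let n := Nat.find hex
  have hn : P n := Nat.find_spec hex
  have hnle : n ≤ N + 1 := Nat.find_min' hex ⟨Nat.le_add_left 1 N, Or.inl rfl⟩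
  refine ⟨n, hn.1, hnle, le_antisymm ?_ ?_⟩
  · intro r hr
    obtain ⟨c, s, rfl⟩ := split_const N r
    have hs : w * s ∈ A := by
      have := sub_mem hr (A.algebraMap_mem c)
      simpa using this
    have key : ∀ j, j ≤ n → ∃ s' : T, w * s = w ^ j * s' := by
      intro j
      induction j with
      | zero => exact fun _ => ⟨w * s, by rw [pow_zero, one_mul]⟩
      | succ j ih =>
        intro hj
        rcases Nat.eq_zero_or_pos j with rfl | hj0
        · exact ⟨s, by rw [zero_add, pow_one]⟩
        obtain ⟨s', hs'⟩ := ih (Nat.le_of_succ_le hj)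
        obtain ⟨d, t, rfl⟩ := split_const N s'
        by_cases hd : d = 0
        · exact ⟨t, by rw [hs', hd, map_zero, zero_add]; ring⟩
        · refine absurd ⟨hj0, Or.inr ⟨d, t, hd, ?_⟩⟩ (Nat.find_min hex (Nat.lt_of_succ_le hj))
          convert hs using 1
          rw [hs']; ring
    obtain ⟨s', hs'⟩ := key n le_rfl
    refine Submodule.add_mem_sup ?_ (Ideal.mem_span_singleton'.mpr ⟨s', by rw [hs', mul_comm]⟩)
    rw [Algebra.algebraMap_eq_smul_one]
    exact Submodule.smul_mem _ _ (Submodule.subset_span rfl)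
  · refine sup_le (Submodule.span_le.mpr (Set.singleton_subset_iff.mpr A.one_mem)) ?_
    -- elements of each order
    have hord : ∀ d, n + d ≤ N →
        ∃ (c : k) (s : T), c ≠ 0 ∧ algebraMap k T c * w ^ (n + d) + w ^ (n + d + 1) * s ∈ A := by
      intro d
      induction d with
      | zero => exact fun h => hn.2.resolve_left (by omega)
      | succ d ih =>
        intro h
        obtain ⟨c, s, hc, hmem⟩ := ih (by omega)
        set m := n + d with hm
        have hm1 : 1 ≤ m := le_trans hn.1 (Nat.le_add_right n d)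
        -- `(1+w)⁻ᵐ = 1 - m w + w² e`
        have hexp : ∀ j : ℕ, ∃ e : T, (((v⁻¹ : Tˣ) : T)) ^ j = 1 - (j : T) * w + w ^ 2 * e := by
          intro j
          induction j with
          | zero => exact ⟨0, by simp⟩
          | succ j ih =>
            obtain ⟨e, he⟩ := ih
            have h1 : ((v⁻¹ : Tˣ) : T) = 1 - w + w ^ 2 * ((v⁻¹ : Tˣ) : T) := by
              have : ((v⁻¹ : Tˣ) : T) * (1 + w) = 1 := by rw [← hv, Units.inv_mul]
              linear_combination (1 - w : T) * this
            refine ⟨(j : T) + (1 - (j : T) * w + e) * ((v⁻¹ : Tˣ) : T), ?_⟩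
            rw [pow_succ ((v⁻¹ : Tˣ) : T) j, he]
            push_cast
            linear_combination (1 - (j : T) * w) * h1
        obtain ⟨e, he⟩ := hexp m
        obtain ⟨e', he'⟩ := hexp (m + 1)
        -- `σ s ≡ s` modulo `w`
        obtain ⟨c₀, s₀, hs₀⟩ := split_const N s
        have hdiff := sub_mem (hσA _ hmem) hmem
        refine ⟨-(m : k) * c,
          algebraMap k T c * e + (((v⁻¹ : Tˣ) : T) * σ s₀ - s₀) +
            (-((m + 1 : ℕ) : T) + w * e') * σ s, ?_, ?_⟩
        · exact mul_ne_zero (neg_ne_zero.mpr (Nat.cast_ne_zero.mpr (by omega))) hc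
        · convert hdiff using 1
          have hσf : σ (algebraMap k T c * w ^ m + w ^ (m + 1) * s) =
              algebraMap k T c * z ^ m + z ^ (m + 1) * σ s := by
            rw [map_add σ, map_mul σ, map_mul σ, map_pow σ, map_pow σ, AlgHom.commutes, hσw]
          rw [hσf, show n + (d + 1) = m + 1 by omega]
          simp only [z, mul_pow, he, he']
          rw [hs₀, map_add, map_mul σ, AlgHom.commutes, hσw, map_mul (algebraMap k T), map_neg,
            map_natCast]
          simp only [z]
          ring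
    -- downward induction
    have hall : ∀ d j, N + 1 ≤ j + d → n ≤ j → ∀ r : T, w ^ j * r ∈ A := by
      intro d
      induction d with
      | zero =>
        intro j hj _ r
        have : (w : T) ^ j = 0 := pow_eq_zero_of_le (by omega) (w_pow N)
        rw [this, zero_mul]
        exact A.zero_mem
      | succ d ih =>
        intro j hj hnj r
        rcases lt_or_ge N j with h | h
        · exact ih j (by omega) hnj r
        obtain ⟨c, s, hc, hmem⟩ := hord (j - n) (by omega)
        rw [show n + (j - n) = j by omega] at hmem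
        obtain ⟨c', r', rfl⟩ := split_const N r
        have h1 : algebraMap k T c * w ^ j ∈ A := by
          have := sub_mem hmem (ih (j + 1) (by omega) (by omega) s)
          simpa using this
        have h2 : algebraMap k T c' * w ^ j ∈ A := by
          have := A.smul_mem h1 (c' * c⁻¹)
          rwa [Algebra.smul_def, ← mul_assoc, ← map_mul, inv_mul_cancel_right₀ hc] at this
        have h3 := add_mem h2 (ih (j + 1) (by omega) (by omega) r')
        convert h3 using 1
        ring
    intro x hx
    obtain ⟨r, rfl⟩ := Ideal.mem_span_singleton'.mp hx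
    rw [mul_comm]
    exact hall (N + 1) n (by omega) le_rfl r

end TruncUnipLib
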